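import Mathlib

/-!
# Modules of type `R^a ⊕ m^b` at a node, and their extension to the normalisation
-/

set_option autoImplicit false
universe u

open TensorProduct

namespace Groth.Agent.TFNodal17

variable {R : Type u} [CommRing R] {S : Type u} [AddCommGroup S] [Module R S] (u₁ : S)
variable {F : Type u} [AddCommGroup F] [Module R F]

/-- `f ↦ f ⊗ u₁`. -/
noncomputable def jmap : F →ₗ[R] F ⊗[R] S := (TensorProduct.mk R F S).flip u₁

theorem jmap_apply (f : F) : jmap (R := R) u₁ f = f ⊗ₜ u₁ := rfl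

theorem range_map_subtype_span : LinearMap.range (TensorProduct.map (LinearMap.id : F →ₗ[R] F)
    (LinearMap.range (LinearMap.toSpanSingleton R S u₁)).subtype) = LinearMap.range (jmap (R := R) (F := F) u₁) := by
  refine le_antisymm ?_ ?_
  · rintro _ ⟨z, rfl⟩
    induction z using TensorProduct.induction_on with
    | zero => rw [map_zero]; exact Submodule.zero_mem _
    | tmul f w =>
      obtain ⟨c, hc⟩ := w.2
      refine ⟨c • f, ?_⟩
      rw [jmap_apply, TensorProduct.map_tmul, LinearMap.id_apply, Submodule.subtype_apply, ← hc,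
        TensorProduct.smul_tmul]
      rfl
    | add a b ha hb => rw [map_add]; exact Submodule.add_mem _ ha hb
  · rintro _ ⟨f, rfl⟩
    exact ⟨f ⊗ₜ ⟨u₁, ⟨1, one_smul R u₁⟩⟩, rfl⟩

/-- The cokernel of `f ↦ f ⊗ u₁` is `F ⊗ (S / R u₁)`. -/
noncomputable def cokerEquiv : F ⊗[R] (S ⧸ LinearMap.range (LinearMap.toSpanSingleton R S u₁)) ≃ₗ[R]
    (F ⊗[R] S) ⧸ LinearMap.range (jmap (R := R) (F := F) u₁) :=
  TensorProduct.tensorQuotientEquiv F _ ≪≫ₗ Submodule.quotEquivOfEq _ _ (range_map_subtype_span u₁)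

variable [IsLocalRing R]

local notation "m" => IsLocalRing.maximalIdeal R

variable {a b : ℕ}

/-- The coordinates of `F ⊗ S`. -/
noncomputable def Θ (e : F ≃ₗ[R] (Fin a → R) × (Fin b → m)) : F ⊗[R] S →ₗ[R] (Fin a → S) × (Fin b → S) :=
  TensorProduct.lift (LinearMap.mk₂ R (fun f s => (fun l => (e f).1 l • s, fun k => ((e f).2 k : R) • s))
    (fun f f' s => by ext <;> simp [add_smul]) (fun c f s => by ext <;> simp [mul_smul])
    (fun f s s' => by ext <;> simp [smul_add]) (fun c f s => by ext <;> simp [smul_comm c]))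

theorem Θ_tmul (e : F ≃ₗ[R] (Fin a → R) × (Fin b → m)) (f : F) (s : S) :
    Θ e (f ⊗ₜ s) = (fun l => (e f).1 l • s, fun k => ((e f).2 k : R) • s) := rfl

theorem jmap_injective (e : F ≃ₗ[R] (Fin a → R) × (Fin b → m)) (hi : ∀ c : R, c • u₁ = 0 → c = 0) :
    Function.Injective (jmap (R := R) (F := F) u₁) := by
  rw [injective_iff_map_eq_zero]
  intro f hf
  have h := congrArg (Θ (S := S) e) hf
  rw [jmap_apply, Θ_tmul, map_zero] at h
  apply e.injective
  rw [map_zero]
  refine Prod.ext (funext fun l => hi _ (congrFun (congrArg Prod.fst h) l)) (funext fun k => Subtype.ext ?_)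
  exact hi _ (congrFun (congrArg Prod.snd h) k)

/-- A regular element of `m` kills the kernel of the coordinates. -/
theorem smul_eq_zero_of_Θ (e : F ≃ₗ[R] (Fin a → R) × (Fin b → m)) {t : R} (ht : t ∈ m) {z : F ⊗[R] S}
    (hz : Θ e z = 0) : t • z = 0 := by
  classical
  let μ : (Fin a → S) × (Fin b → S) →ₗ[R] F ⊗[R] S :=
    (∑ l, (TensorProduct.mk R F S (e.symm (Pi.single l t, 0))) ∘ₗ LinearMap.proj l ∘ₗ LinearMap.fst R _ _) +
      ∑ k, (TensorProduct.mk R F S (e.symm (0, Pi.single k ⟨t, ht⟩))) ∘ₗ LinearMap.proj k ∘ₗ LinearMap.snd R _ _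
  have key : μ ∘ₗ Θ e = t • LinearMap.id := by
    refine TensorProduct.ext' fun f s => ?_
    simp only [μ, LinearMap.comp_apply, LinearMap.add_apply, LinearMap.sum_apply, Θ_tmul, LinearMap.fst_apply,
      LinearMap.snd_apply, LinearMap.proj_apply, TensorProduct.mk_apply, LinearMap.smul_apply, LinearMap.id_apply]
    simp only [← TensorProduct.smul_tmul, ← map_smul, ← TensorProduct.sum_tmul, ← map_sum, ← TensorProduct.add_tmul,
      ← map_add, TensorProduct.smul_tmul']
    congr 1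
    apply e.injective
    rw [e.apply_symm_apply, map_smul]
    refine Prod.ext (funext fun l => ?_) (funext fun k => Subtype.ext ?_)
    · simp [Prod.fst_sum, Pi.single_apply, mul_comm]
    · simp [Prod.snd_sum, Pi.single_apply, mul_comm, apply_ite (Subtype.val : m → R)]
  have h := LinearMap.congr_fun key z
  rw [LinearMap.comp_apply, hz, map_zero] at h
  exact h.symm

/-- The coordinates vanish exactly on the torsion. -/
theorem Θ_eq_zero_iff (e : F ≃ₗ[R] (Fin a → R) × (Fin b → m)) {t : R} (ht : t ∈ m) (ht' : t ∈ nonZeroDivisors R)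
    (htf : ∀ c ∈ nonZeroDivisors R, ∀ s : S, c • s = 0 → s = 0) (z : F ⊗[R] S) :
    Θ e z = 0 ↔ ∃ c ∈ nonZeroDivisors R, c • z = 0 := by
  refine ⟨fun h => ⟨t, ht', smul_eq_zero_of_Θ e ht h⟩, fun ⟨c, hc, h⟩ => ?_⟩
  have h2 := congrArg (Θ e) h
  rw [map_smul, map_zero] at h2
  exact Prod.ext (funext fun l => htf c hc _ (congrFun (congrArg Prod.fst h2) l))
    (funext fun k => htf c hc _ (congrFun (congrArg Prod.snd h2) k))

/-- The second coordinates lie in `m u₁`. -/
theorem Θ_snd_mem (e : F ≃ₗ[R] (Fin a → R) × (Fin b → m)) (hm : ∀ t ∈ m, ∀ s : S, ∃ c ∈ m, c • u₁ = t • s)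
    (z : F ⊗[R] S) (k : Fin b) : ∃ c : m, (c : R) • u₁ = (Θ e z).2 k := by
  induction z using TensorProduct.induction_on with
  | zero => exact ⟨0, by simp⟩
  | tmul f s =>
    obtain ⟨c, hc, h⟩ := hm _ ((e f).2 k).2 s
    exact ⟨⟨c, hc⟩, h⟩
  | add z w hz hw =>
    obtain ⟨c, hc⟩ := hz
    obtain ⟨d, hd⟩ := hw
    exact ⟨c + d, by rw [map_add, Prod.snd_add, Pi.add_apply, ← hc, ← hd, Submodule.coe_add, add_smul]⟩

/-- The cokernel of `F → (F ⊗ S)/torsion` has length `a · length(S / R u₁)`. -/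
theorem length_coker_mod_torsion {M : Type u} [AddCommGroup M] [Module R M] (e : F ≃ₗ[R] (Fin a → R) × (Fin b → m))
    (φ : F ⊗[R] S →ₗ[R] M) (hφ : Function.Surjective φ) (hker : ∀ z, φ z = 0 ↔ Θ e z = 0)
    (hm : ∀ t ∈ m, ∀ s : S, ∃ c ∈ m, c • u₁ = t • s) :
    Module.length R (M ⧸ LinearMap.range (φ ∘ₗ jmap u₁)) =
      a * Module.length R (S ⧸ LinearMap.range (LinearMap.toSpanSingleton R S u₁)) := by
  classical
  let T := LinearMap.range (LinearMap.toSpanSingleton R S u₁)
  let g : F ⊗[R] S →ₗ[R] (Fin a → S ⧸ T) :=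
    LinearMap.pi fun l => T.mkQ ∘ₗ LinearMap.proj l ∘ₗ LinearMap.fst R _ _ ∘ₗ Θ e
  have hg : Function.Surjective g := fun c => by
    choose s hs using fun l => T.mkQ_surjective (c l)
    refine ⟨∑ l, e.symm (Pi.single l 1, 0) ⊗ₜ s l, funext fun l => ?_⟩
    show T.mkQ ((Θ e _).1 l) = c l
    rw [map_sum, Prod.fst_sum, Finset.sum_apply, Finset.sum_eq_single l (fun j _ hj => by
      rw [Θ_tmul, e.apply_symm_apply]; simp [Pi.single_eq_of_ne (Ne.symm hj)])
      (fun h => absurd (Finset.mem_univ l) h), Θ_tmul, e.apply_symm_apply]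
    simp [← hs l]
  let ψ : F ⊗[R] S →ₗ[R] M ⧸ LinearMap.range (φ ∘ₗ jmap u₁) := Submodule.mkQ _ ∘ₗ φ
  have hψ : Function.Surjective ψ := (Submodule.mkQ_surjective _).comp hφ
  have hkg : LinearMap.ker g = LinearMap.ker ψ := by
    ext z
    simp only [LinearMap.mem_ker]
    constructor
    · intro hz
      have h1 : ∀ l, ∃ c : R, c • u₁ = (Θ e z).1 l := fun l =>
        (Submodule.Quotient.mk_eq_zero _).1 (congrFun hz l)
      choose c hc using h1
      choose d hd using Θ_snd_mem u₁ e hm z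
      have h0 : φ (z - jmap u₁ (e.symm (c, d))) = 0 := by
        rw [hker, map_sub, jmap_apply, Θ_tmul, e.apply_symm_apply, sub_eq_zero]
        exact Prod.ext (funext fun l => (hc l).symm) (funext fun k => (hd k).symm)
      refine (Submodule.Quotient.mk_eq_zero _).2 ⟨e.symm (c, d), ?_⟩
      rw [map_sub, sub_eq_zero] at h0
      exact h0.symm
    · intro hz
      obtain ⟨f, hf⟩ := (Submodule.Quotient.mk_eq_zero _).1 hz
      have h0 : Θ e (z - jmap u₁ f) = 0 := (hker _).1 (by rw [map_sub, sub_eq_zero]; exact hf.symm)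
      rw [map_sub, sub_eq_zero] at h0
      funext l
      refine (Submodule.Quotient.mk_eq_zero _).2 ⟨(e f).1 l, ?_⟩
      show (e f).1 l • u₁ = (Θ e z).1 l
      rw [h0]
      rfl
  rw [← (ψ.quotKerEquivOfSurjective hψ).length_eq, ← (Submodule.quotEquivOfEq _ _ hkg).length_eq,
    (g.quotKerEquivOfSurjective hg).length_eq]
  simp [Module.length_pi, T]

/-- The length of `F ⊗ R/m`. -/
theorem length_tensor_residue (e : F ≃ₗ[R] (Fin a → R) × (Fin b → m)) {d : ℕ}
    (hd : Module.length R (IsLocalRing.maximalIdeal R).Cotangent = d) :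
    Module.length R (F ⊗[R] (R ⧸ m)) = ((a + d * b : ℕ) : ℕ∞) := by
  classical
  haveI : IsSimpleModule R (R ⧸ m) := isSimpleModule_iff_quot_maximal.2 ⟨m, inferInstance, ⟨LinearEquiv.refl _ _⟩⟩
  have h1 : Module.length R (R ⊗[R] (R ⧸ m)) = 1 := by
    rw [(TensorProduct.lid R (R ⧸ m)).length_eq]
    exact Module.length_eq_one_iff.2 inferInstance
  have h2 : Module.length R ((m : Ideal R) ⊗[R] (R ⧸ m)) = d := by
    rw [(TensorProduct.tensorQuotEquivQuotSMul (m : Ideal R) m).length_eq]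
    exact hd
  rw [(TensorProduct.congr e (LinearEquiv.refl R (R ⧸ m))).length_eq,
    (TensorProduct.prodLeft R R (Fin a → R) (Fin b → m) (R ⧸ m)).length_eq, Module.length_prod,
    (TensorProduct.comm R (Fin a → R) (R ⧸ m) ≪≫ₗ TensorProduct.piRight R R (R ⧸ m) (fun _ : Fin a => R) ≪≫ₗ
      LinearEquiv.piCongrRight fun _ => TensorProduct.comm R (R ⧸ m) R).length_eq,
    (TensorProduct.comm R (Fin b → m) (R ⧸ m) ≪≫ₗ TensorProduct.piRight R R (R ⧸ m) (fun _ : Fin b => m) ≪≫ₗ
      LinearEquiv.piCongrRight fun _ => TensorProduct.comm R (R ⧸ m) m).length_eq, Module.length_pi, Module.length_pi]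
  simp [h1, h2, mul_comm]

end Groth.Agent.TFNodal17
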