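import Groth.Agent.Lib.NormStalk17.Euler
import Groth.Agent.Lib.ResDesc11.Basic
import Groth.Agent.Lib.StQC14.FinPushGen
import Groth.Agent.Lib.CurveCoh17.GenericZero
import Groth.Agent.Lib.TFNodal17.Alg

/-!
# The direct image of a pullback along a finite birational map
-/

set_option autoImplicit false
set_option linter.style.haveILetI false
set_option backward.isDefEq.respectTransparency false
set_option backward.isDefEq.respectTransparency.types false
set_option maxHeartbeats 1000000
universe u

open CategoryTheory CategoryTheory.Limits AlgebraicGeometry TopologicalSpace Opposite TensorProduct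

noncomputable section

namespace Groth.Agent.TFNodal17

open Groth.Agent Groth.Agent.M1 Groth.Agent.M2 Groth.Agent.CurveCoh17

variable {X : Scheme.{u}}

/-- The stalk of a cokernel. -/
theorem nonempty_coker_stalk {A B : X.Modules} (φ : A ⟶ B) (x : X) :
    Nonempty ((cokernel φ).presheaf.stalk x ≃ₗ[X.presheaf.stalk x]
      (B.presheaf.stalk x : Type u) ⧸ LinearMap.range (stalkLin φ x)) := by
  have hsurj : Function.Surjective (stalkLin (cokernel.π φ) x) := (epi_iff_stalk (cokernel.π φ)).1 inferInstance x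
  have hker : LinearMap.ker (stalkLin (cokernel.π φ) x) = LinearMap.range (stalkLin φ x) := by
    refine le_antisymm (fun b hb => ?_) ?_
    · exact (exact_iff_stalk_eq_zero (ShortComplex.mk _ (cokernel.π φ) (cokernel.condition _))).1
        (ShortComplex.exact_cokernel _) x b hb
    · rintro _ ⟨a, rfl⟩
      rw [LinearMap.mem_ker, ← stalkLin_comp, cokernel.condition]
      show (stalkAb x).map (0 : A ⟶ cokernel φ) a = 0
      rw [Functor.map_zero]
      rfl
  exact ⟨((stalkLin (cokernel.π φ) x).quotKerEquivOfSurjective hsurj).symm ≪≫ₗ Submodule.quotEquivOfEq _ _ hker⟩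

variable {Y : Scheme.{u}} (π : Y ⟶ X)

/-- The germ of one in the direct image of the structure sheaf. -/
def u₁ (x : X) : ((pushO π).presheaf.stalk x : Type u) :=
  (pushO π).presheaf.germ ⊤ x trivial ((ClSub.unitToPush π).app ⊤ (one ⊤))

theorem stalkLin_unitToPush_str (x : X) (c : X.presheaf.stalk x) :
    stalkLin (ClSub.unitToPush π) x (RH26.str x c) = c • u₁ π x := by
  rw [RH26.str_apply, map_smul]
  refine congrArg (c • ·) ?_
  show stalkLin (ClSub.unitToPush π) x ((Coh.structureModule X).presheaf.germ ⊤ x trivial (one ⊤)) = _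
  rw [stalkLin_apply, germ_naturality]
  rfl

theorem range_u₁ (x : X) : LinearMap.range (stalkLin (ClSub.unitToPush π) x) =
    LinearMap.range (LinearMap.toSpanSingleton (X.presheaf.stalk x) _ (u₁ π x)) := by
  ext b
  constructor
  · rintro ⟨a, rfl⟩
    obtain ⟨c, rfl⟩ := (RH26.str x).surjective a
    exact ⟨c, (stalkLin_unitToPush_str π x c).symm⟩
  · rintro ⟨c, rfl⟩
    exact ⟨RH26.str x c, stalkLin_unitToPush_str π x c⟩

section finite

variable [IsFinite π] (F : X.Modules) [Coh.IsQCoh F]

/-- The stalk of `π_* π^* F`. -/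
def pushPullStalk (x : X) : (F.presheaf.stalk x : Type u) ⊗[X.presheaf.stalk x] ((pushO π).presheaf.stalk x : Type u)
    ≃ₗ[X.presheaf.stalk x] (((Scheme.Modules.pushforward π).obj ((Scheme.Modules.pullback π).obj F)).presheaf.stalk x : Type u) :=
  (M2.stalkEquiv F (pushO π) x).symm ≪≫ₗ LinearEquiv.ofBijective (stalkLin (ResDesc11.proj π F) x)
    ((isIso_iff_stalk _).1 (ResDesc11.isIso_proj π F) x)

theorem stalkLin_unit (x : X) (a : F.presheaf.stalk x) :
    stalkLin ((Scheme.Modules.pullbackPushforwardAdjunction π).unit.app F) x a =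
      pushPullStalk π F x (jmap (u₁ π x) a) := by
  obtain ⟨U, hx, s, rfl⟩ := F.presheaf.exists_germ_eq a
  have hu : u₁ π x = (pushO π).presheaf.germ U x hx (M1.mres (pushO π) le_top ((ClSub.unitToPush π).app ⊤ (one ⊤))) :=
    (germ_mres (pushO π) le_top hx _).symm
  have h2 : (M2.stalkEquiv F (pushO π) x).symm (F.presheaf.germ U x hx s ⊗ₜ u₁ π x) =
      (CohB1.tensorMod F (pushO π)).presheaf.germ U x hx
        (M2.tsec F (pushO π) s (M1.mres (pushO π) le_top ((ClSub.unitToPush π).app ⊤ (one ⊤)))) := by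
    rw [hu, LinearEquiv.symm_apply_eq, M2.stalkEquiv_tsec]
  show stalkLin _ x _ = stalkLin (ResDesc11.proj π F) x ((M2.stalkEquiv F (pushO π) x).symm (_ ⊗ₜ u₁ π x))
  rw [h2]
  refine ((germ_naturality ((Scheme.Modules.pullbackPushforwardAdjunction π).unit.app F) U x hx s).trans ?_).trans
    (germ_naturality (ResDesc11.proj π F) U x hx _).symm
  refine congrArg _ (Eq.trans ?_ (ResDesc11.proj_tsec π F s _).symm)
  have hone : (show Γ(Y, π ⁻¹ᵁ U) from M1.mres (pushO π) le_top ((ClSub.unitToPush π).app ⊤ (one ⊤))) = 1 := by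
    show ores (π.preimage_mono (le_top : U ≤ ⊤)) (π.app ⊤ (1 : Γ(X, ⊤))) = 1
    rw [map_one, map_one]
  rw [hone, one_smul]

theorem range_unit (x : X) : LinearMap.range (stalkLin ((Scheme.Modules.pullbackPushforwardAdjunction π).unit.app F) x) =
    (LinearMap.range (jmap (R := X.presheaf.stalk x) (F := (F.presheaf.stalk x : Type u)) (u₁ π x))).map
      (pushPullStalk π F x).toLinearMap := by
  rw [← LinearMap.range_comp]
  exact congrArg LinearMap.range (LinearMap.ext fun a => stalkLin_unit π F x a)

/-- The cokernel of the unit. -/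
theorem nonempty_coker_unit (x : X) :
    Nonempty ((cokernel ((Scheme.Modules.pullbackPushforwardAdjunction π).unit.app F)).presheaf.stalk x
      ≃ₗ[X.presheaf.stalk x] (F.presheaf.stalk x : Type u) ⊗[X.presheaf.stalk x]
        (((pushO π).presheaf.stalk x : Type u) ⧸
          LinearMap.range (LinearMap.toSpanSingleton (X.presheaf.stalk x) _ (u₁ π x)))) := by
  obtain ⟨e⟩ := nonempty_coker_stalk ((Scheme.Modules.pullbackPushforwardAdjunction π).unit.app F) x
  exact ⟨e ≪≫ₗ (Submodule.Quotient.equiv _ _ (pushPullStalk π F x) (range_unit π F x).symm).symm ≪≫ₗ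
    (cokerEquiv (u₁ π x)).symm⟩

end finite

section birational

variable [IsNoetherian X] [AlgebraicGeometry.IsReduced X] [IsFinite π] (hY : Pi1.IsNormalScheme Y) (U : X.Opens)
  (hU : Dense (U : Set X)) (hU' : Dense ((π ⁻¹ᵁ U : Y.Opens) : Set Y)) [IsIso (π ∣_ U)]

include hY hU hU'

theorem smul_u₁_eq_zero {x : X} {c : X.presheaf.stalk x} (h : c • u₁ π x = 0) : c = 0 := by
  obtain ⟨e, he⟩ := NormStalk17.exists_stalk_equiv π hY U hU hU' x
  have he' : e (u₁ π x) = 1 := by
    rw [← he, stalkLin_apply, germ_naturality]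
    rfl
  have h2 := congrArg e h
  rw [map_smul, he', map_zero, ← Algebra.algebraMap_eq_smul_one] at h2
  have h3 : algebraMap (X.presheaf.stalk x) (FractionRing (X.presheaf.stalk x)) c = 0 := congrArg Subtype.val h2
  exact IsFractionRing.injective (X.presheaf.stalk x) (FractionRing (X.presheaf.stalk x)) (h3.trans (map_zero _).symm)

theorem torsionFree_pushO {x : X} (c : X.presheaf.stalk x) (hc : c ∈ nonZeroDivisors (X.presheaf.stalk x))
    (s : ((pushO π).presheaf.stalk x : Type u)) (h : c • s = 0) : s = 0 := by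
  obtain ⟨e, -⟩ := NormStalk17.exists_stalk_equiv π hY U hU hU' x
  apply e.injective
  rw [map_zero]
  have h2 := congrArg e h
  rw [map_smul, map_zero, Algebra.smul_def] at h2
  have h3 : algebraMap (X.presheaf.stalk x) (FractionRing (X.presheaf.stalk x)) c *
      ((e s : integralClosure _ _) : FractionRing (X.presheaf.stalk x)) = 0 := congrArg Subtype.val h2
  exact Subtype.ext (((IsLocalization.map_units (FractionRing (X.presheaf.stalk x))
    (⟨c, hc⟩ : nonZeroDivisors (X.presheaf.stalk x))).mul_right_eq_zero).1 h3)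

theorem length_Q (x : X) : Module.length (X.presheaf.stalk x) (((pushO π).presheaf.stalk x : Type u) ⧸
      LinearMap.range (LinearMap.toSpanSingleton (X.presheaf.stalk x) _ (u₁ π x))) =
    Curv2.deltaInv (X.presheaf.stalk x) := by
  obtain ⟨e⟩ := nonempty_coker_stalk (ClSub.unitToPush π) x
  rw [← (e ≪≫ₗ Submodule.quotEquivOfEq _ _ (range_u₁ π x)).length_eq]
  exact NormStalk17.length_coker π hY U hU hU' x

theorem exists_residue_equiv {x : X} (hδ : Curv2.deltaInv (X.presheaf.stalk x) = 1) :
    Nonempty ((((pushO π).presheaf.stalk x : Type u) ⧸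
        LinearMap.range (LinearMap.toSpanSingleton (X.presheaf.stalk x) _ (u₁ π x))) ≃ₗ[X.presheaf.stalk x]
      X.presheaf.stalk x ⧸ IsLocalRing.maximalIdeal (X.presheaf.stalk x)) := by
  have h := length_Q π hY U hU hU' x
  rw [hδ, Module.length_eq_one_iff] at h
  obtain ⟨I, hI, ⟨e⟩⟩ := isSimpleModule_iff_quot_maximal.1 h
  exact ⟨e ≪≫ₗ Submodule.quotEquivOfEq _ _ (IsLocalRing.eq_maximalIdeal hI)⟩

theorem smul_mem_u₁ {x : X} (hδ : Curv2.deltaInv (X.presheaf.stalk x) = 1)
    (t : X.presheaf.stalk x) (ht : t ∈ IsLocalRing.maximalIdeal (X.presheaf.stalk x))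
    (s : ((pushO π).presheaf.stalk x : Type u)) :
    ∃ c ∈ IsLocalRing.maximalIdeal (X.presheaf.stalk x), c • u₁ π x = t • s := by
  obtain ⟨q⟩ := exists_residue_equiv π hY U hU hU' hδ
  have h0 : t • (Submodule.Quotient.mk s : _ ⧸ LinearMap.range (LinearMap.toSpanSingleton (X.presheaf.stalk x) _ (u₁ π x))) = 0 := by
    apply q.injective
    rw [map_smul, map_zero]
    obtain ⟨r, hr⟩ := Ideal.Quotient.mk_surjective (q (Submodule.Quotient.mk s))
    rw [← hr]
    exact (Submodule.Quotient.mk_eq_zero _).2 (Ideal.mul_mem_right r _ ht)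
  obtain ⟨c, hc⟩ := (Submodule.Quotient.mk_eq_zero _).1 h0
  refine ⟨c, ?_, hc⟩
  by_contra hcu
  rw [IsLocalRing.mem_maximalIdeal, mem_nonunits_iff, not_not] at hcu
  obtain ⟨e, he⟩ := NormStalk17.exists_stalk_equiv π hY U hU hU' x
  have he' : e (u₁ π x) = 1 := by
    rw [← he, stalkLin_apply, germ_naturality]
    rfl
  have h2 : c • e (u₁ π x) = t • e s := by
    rw [← map_smul, ← map_smul]
    exact congrArg e hc
  rw [he', ← Algebra.algebraMap_eq_smul_one, Algebra.smul_def] at h2
  have hu : IsUnit (algebraMap (X.presheaf.stalk x) (integralClosure (X.presheaf.stalk x) (FractionRing (X.presheaf.stalk x))) t) := by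
    refine isUnit_of_mul_isUnit_left (y := e s) ?_
    rw [← h2]
    exact hcu.map _
  haveI : FaithfulSMul (X.presheaf.stalk x) (integralClosure (X.presheaf.stalk x) (FractionRing (X.presheaf.stalk x))) :=
    (faithfulSMul_iff_algebraMap_injective _ _).2 fun a b hab =>
      IsFractionRing.injective (X.presheaf.stalk x) (FractionRing (X.presheaf.stalk x)) (congrArg Subtype.val hab)
  exact (IsLocalRing.mem_maximalIdeal _).1 ht (IsUnit.of_map (algebraMap (X.presheaf.stalk x) _) t hu)

omit hY hU' in
theorem surjective_u₁ {x : X} (hx : x ∈ U) :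
    LinearMap.range (LinearMap.toSpanSingleton (X.presheaf.stalk x) _ (u₁ π x)) = ⊤ := by
  rw [← range_u₁, LinearMap.range_eq_top]
  exact surjective_stalkLin_unitToPush π U hx

end birational

end Groth.Agent.TFNodal17
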