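import Groth.Agent.Lib.TFNodal17.Node
import Groth.Agent.Lib.TFNodal17.Push
import Groth.Agent.Lib.ShStab28.MuIso
import Groth.Agent.Lib.H12.DimZero
import Groth.Agent.Lib.H12.Dim
import Groth.Agent.Lib.ModM1.Pull

/-!
# Modules of type `R^a ⊕ m^b` at the nodes, and their direct images from the normalisation
-/

set_option autoImplicit false
set_option linter.style.haveILetI false
set_option linter.unusedSectionVars false
set_option backward.isDefEq.respectTransparency false
set_option backward.isDefEq.respectTransparency.types false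
set_option maxHeartbeats 1000000
universe u

open CategoryTheory CategoryTheory.Limits AlgebraicGeometry TopologicalSpace Opposite TensorProduct

noncomputable section

namespace Groth.Agent.TFNodal17

open Groth.Agent Groth.Agent.M1 Groth.Agent.M2 Groth.Agent.CurveCoh17

/-- The data of a nodal curve with a normalisation and a module of given types. -/
structure Data (k : Type u) [Field k] (X : Scheme.{u}) [X.Over (Spec (CommRingCat.of k))] {Y : Scheme.{u}}
    (π : Y ⟶ X) (r : ℕ) (F : X.Modules) (a : X → ℕ) : Prop where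
  hdim : topologicalKrullDim X = 1
  hnod : Curv2.AtWorstNodal k X
  sm : Smooth (π ≫ (X ↘ Spec (CommRingCat.of k)))
  exU : ∃ U : X.Opens, (∀ x : X, x ∈ U ↔ ¬ Curv2.IsNode k X x) ∧ IsIso (π ∣_ U) ∧
    Dense ((π ⁻¹ᵁ U : Y.Opens) : Set Y)
  hF : Coh.IsCoh F
  hfree : ∀ x : X, ¬ Curv2.IsNode k X x →
    Nonempty (F.presheaf.stalk x ≃ₗ[X.presheaf.stalk x] (Fin r → X.presheaf.stalk x))
  htype : ∀ x : X, Curv2.IsNode k X x → a x ≤ r ∧
    Nonempty (F.presheaf.stalk x ≃ₗ[X.presheaf.stalk x]
      ((Fin (a x) → X.presheaf.stalk x) × (Fin (r - a x) → IsLocalRing.maximalIdeal (X.presheaf.stalk x))))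

variable {k : Type u} [Field k] [IsAlgClosed k] [CharZero k] {X : Scheme.{u}} [X.Over (Spec (CommRingCat.of k))]
  [IsProper (X ↘ Spec (CommRingCat.of k))] [ConnectedSpace X] {Y : Scheme.{u}} {π : Y ⟶ X} [IsFinite π]
  {r : ℕ} {F : X.Modules} {a : X → ℕ} (D : Data k X π r F a)

include D

theorem Data.noeth : IsNoetherian X := CohFound.isNoetherian_of_isProper (X ↘ Spec (CommRingCat.of k))

theorem Data.red : AlgebraicGeometry.IsReduced X := isReduced D.hnod

theorem Data.normal : Pi1.IsNormalScheme Y := by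
  haveI := D.sm
  exact fun y => ⟨SmoothReg17.isDomain_stalk (π ≫ (X ↘ Spec (CommRingCat.of k))) y,
    SmoothReg17.isIntegrallyClosed_stalk (π ≫ (X ↘ Spec (CommRingCat.of k))) y⟩

/-- The complement of the nodes. -/
def Data.U : X.Opens := D.exU.choose

theorem Data.mem_U (x : X) : x ∈ D.U ↔ ¬ Curv2.IsNode k X x := D.exU.choose_spec.1 x

theorem Data.iso_U : IsIso (π ∣_ D.U) := D.exU.choose_spec.2.1

theorem Data.denseY : Dense ((π ⁻¹ᵁ D.U : Y.Opens) : Set Y) := D.exU.choose_spec.2.2

theorem Data.not_node_of_maxPt {η : X} (hη : FlatH4.IsMaxPt η) : ¬ Curv2.IsNode k X η :=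
  fun hn => not_maxPt_node D.hdim hn hη

theorem Data.denseX : Dense (D.U : Set X) := fun x => by
  obtain ⟨η, hη, hηx⟩ := FlatH4.exists_isMaxPt_specializes x
  exact closure_mono (Set.singleton_subset_iff.2 ((D.mem_U η).2 (D.not_node_of_maxPt hη))) hηx.mem_closure

theorem Data.deltaInv {x : X} (hx : Curv2.IsNode k X x) : Curv2.deltaInv (X.presheaf.stalk x) = 1 :=
  haveI := D.red
  Multicross5.deltaInv_node hx (dim_stalk (k := k) D.hdim hx.1)

theorem Data.exists_nzd {x : X} (hx : Curv2.IsNode k X x) :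
    ∃ t ∈ IsLocalRing.maximalIdeal (X.presheaf.stalk x), t ∈ nonZeroDivisors (X.presheaf.stalk x) :=
  haveI := D.noeth
  haveI := D.red
  S18913.exists_regular (not_maxPt_node D.hdim hx)

/-- The type at a point, uniformly. -/
theorem Data.exists_type (x : X) : ∃ (p q : ℕ),
    Nonempty (F.presheaf.stalk x ≃ₗ[X.presheaf.stalk x]
      ((Fin p → X.presheaf.stalk x) × (Fin q → IsLocalRing.maximalIdeal (X.presheaf.stalk x)))) := by
  by_cases hx : Curv2.IsNode k X x
  · exact ⟨a x, r - a x, (D.htype x hx).2⟩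
  · obtain ⟨e⟩ := D.hfree x hx
    exact ⟨r, 0, ⟨e ≪≫ₗ LinearEquiv.symm
      { toFun := fun p => p.1
        map_add' := fun _ _ => rfl
        map_smul' := fun _ _ => rfl
        invFun := fun f => (f, 0)
        left_inv := fun p => Prod.ext rfl (funext fun i => i.elim0)
        right_inv := fun _ => rfl }⟩⟩

theorem Data.smul_regular {x : X} {c : X.presheaf.stalk x} (hc : c ∈ nonZeroDivisors (X.presheaf.stalk x))
    {f : F.presheaf.stalk x} (h : c • f = 0) : f = 0 := by
  obtain ⟨p, q, ⟨e⟩⟩ := D.exists_type x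
  apply e.injective
  rw [map_zero]
  have h2 := congrArg e h
  rw [map_smul, map_zero] at h2
  refine Prod.ext (funext fun i => ?_) (funext fun i => Subtype.ext ?_)
  · exact (mem_nonZeroDivisors_iff_left.1 hc) _ (congrFun (congrArg Prod.fst h2) i)
  · exact (mem_nonZeroDivisors_iff_left.1 hc) _ (congrArg Subtype.val (congrFun (congrArg Prod.snd h2) i))

/-- `f ↦ f ⊗ 1` is injective. -/
theorem Data.jmap_inj (x : X) : Function.Injective
    (jmap (R := X.presheaf.stalk x) (F := (F.presheaf.stalk x : Type u)) (u₁ π x)) := by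
  haveI := D.noeth
  haveI := D.red
  haveI := D.iso_U
  obtain ⟨p, q, ⟨e⟩⟩ := D.exists_type x
  exact jmap_injective (u₁ π x) e fun c hc => smul_u₁_eq_zero π D.normal D.U D.denseX D.denseY hc

theorem Data.unit_injective (x : X) :
    Function.Injective (stalkLin ((Scheme.Modules.pullbackPushforwardAdjunction π).unit.app F) x) := by
  haveI : Coh.IsQCoh F := D.hF.1
  intro b c h
  rw [stalkLin_unit, stalkLin_unit] at h
  exact D.jmap_inj x ((pushPullStalk π F x).injective h)

theorem Data.u₁_top {x : X} (hx : ¬ Curv2.IsNode k X x) :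
    LinearMap.range (LinearMap.toSpanSingleton (X.presheaf.stalk x) _ (u₁ π x)) = ⊤ := by
  haveI := D.noeth
  haveI := D.red
  haveI := D.iso_U
  exact surjective_u₁ π D.U D.denseX ((D.mem_U x).2 hx)

theorem Data.unit_surjective {x : X} (hx : ¬ Curv2.IsNode k X x) :
    Function.Surjective (stalkLin ((Scheme.Modules.pullbackPushforwardAdjunction π).unit.app F) x) := by
  haveI : Coh.IsQCoh F := D.hF.1
  intro b
  obtain ⟨z, rfl⟩ := (pushPullStalk π F x).surjective b
  induction z using TensorProduct.induction_on with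
  | zero => exact ⟨0, by rw [map_zero, map_zero]⟩
  | tmul f s =>
    obtain ⟨c, hc⟩ := (D.u₁_top hx).ge (Submodule.mem_top (x := s))
    refine ⟨c • f, ?_⟩
    rw [stalkLin_unit, jmap_apply, TensorProduct.smul_tmul]
    exact congrArg (fun s => pushPullStalk π F x (f ⊗ₜ s)) hc
  | add z w hz hw =>
    obtain ⟨f, hf⟩ := hz
    obtain ⟨g, hg⟩ := hw
    exact ⟨f + g, by rw [map_add, map_add, hf, hg]⟩

/-- Maximal points of `Y` lie over maximal points of `X`. -/
theorem Data.maxPt_image {η' : Y} (hη' : FlatH4.IsMaxPt η') : FlatH4.IsMaxPt (π η') := by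
  haveI := D.iso_U
  haveI := D.noeth
  haveI := NormStalk17.isNoetherian_of_finite π
  intro y hy
  have hgU : η' ∈ π ⁻¹ᵁ D.U := mem_of_dense_of_maximal D.denseY hη'
  have hyU : y ∈ D.U := hy.mem_open D.U.2 hgU
  obtain ⟨y', hy'⟩ := (π ∣_ D.U).homeomorph.surjective (⟨y, hyU⟩ : D.U)
  have hsp : y' ⤳ (⟨η', hgU⟩ : π ⁻¹ᵁ D.U) := by
    rw [← (π ∣_ D.U).homeomorph.isInducing.specializes_iff]
    have e1 : (π ∣_ D.U).homeomorph y' = (⟨y, hyU⟩ : D.U) := hy'
    rw [e1]
    exact subtype_specializes_iff _ _ |>.2 (by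
      show y ⤳ ((π ∣_ D.U) (⟨η', hgU⟩ : π ⁻¹ᵁ D.U)).1
      rw [morphismRestrict_base_coe]
      exact hy)
  have hy'' : y'.1 = η' := hη' _ (subtype_specializes_iff _ _ |>.1 hsp)
  have h2 : (π ∣_ D.U) y' = (⟨y, hyU⟩ : D.U) := hy'
  have h3 := congrArg Subtype.val h2
  rw [morphismRestrict_base_coe] at h3
  exact (h3.symm : y = π y'.1).trans (congrArg (fun z => π z) hy'')

variable {E : Y.Modules} (hE : FlatMod.IsFinLocFreeOfRank r E)

include hE

/-- The direct image of a locally free module has no torsion. -/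
theorem Data.torsionFree_push {x : X} {c : X.presheaf.stalk x} (hc : c ∈ nonZeroDivisors (X.presheaf.stalk x))
    {z : ((Scheme.Modules.pushforward π).obj E).presheaf.stalk x} (h : c • z = 0) : z = 0 := by
  haveI := D.noeth
  haveI := D.red
  haveI := NormStalk17.isNoetherian_of_finite π
  let P := (Scheme.Modules.pushforward π).obj E
  obtain ⟨V₀, hxV₀, c₀, rfl⟩ := X.presheaf.exists_germ_eq c
  obtain ⟨V₁, hxV₁, s, rfl⟩ := P.presheaf.exists_germ_eq z
  let Z : Set X := ⋃ η ∈ {η : X | FlatH4.IsMaxPt η ∧ ¬ η ⤳ x}, closure {η}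
  have hZ : IsClosed Z := ((S18913.finite_maxPts X).subset fun η hη => hη.1).isClosed_biUnion
    fun η _ => isClosed_closure
  let V₂ : X.Opens := V₀ ⊓ V₁ ⊓ ⟨Zᶜ, hZ.isOpen_compl⟩
  have hxV₂ : x ∈ V₂ := ⟨⟨hxV₀, hxV₁⟩, fun hm => by
    obtain ⟨η, hη, hx⟩ := Set.mem_iUnion₂.1 hm
    exact hη.2 (specializes_iff_mem_closure.2 hx)⟩
  have h0 : P.presheaf.germ V₂ x hxV₂ (ores (inf_le_left.trans inf_le_left : V₂ ≤ V₀) c₀ •
      M1.mres P (inf_le_left.trans inf_le_right : V₂ ≤ V₁) s) = 0 := by
    rw [germ_smul, germ_mres]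
    refine Eq.trans ?_ h
    exact congrArg (· • _) (X.presheaf.germ_res_apply (homOfLE _) x hxV₂ c₀)
  obtain ⟨W, hxW, i₁, i₂, hW⟩ := P.presheaf.germ_eq x hxV₂ hxV₂ _ 0 (h0.trans (map_zero _).symm)
  refine Eq.trans (Eq.trans (germ_mres P (i₁.le.trans (inf_le_left.trans inf_le_right)) hxW s).symm ?_)
    (map_zero (P.presheaf.germ W x hxW).hom)
  refine congrArg (P.presheaf.germ W x hxW) ?_
  let cW : Γ(X, W) := ores (i₁.le.trans (inf_le_left.trans inf_le_left) : W ≤ V₀) c₀
  let sW : Γ(E, π ⁻¹ᵁ W) := M1.mres P (i₁.le.trans (inf_le_left.trans inf_le_right) : W ≤ V₁) s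
  have hmul : (π.app W cW) • sW = 0 := by
    have h1 : M1.mres P i₁.le (ores (inf_le_left.trans inf_le_left : V₂ ≤ V₀) c₀ •
        M1.mres P (inf_le_left.trans inf_le_right : V₂ ≤ V₁) s) = 0 := hW.trans (map_zero _)
    rw [mres_smul, ores_ores, mres_mres] at h1
    exact h1
  refine (M1.section_ext _ _ fun y hy => ?_ : sW = 0)
  rw [map_zero]
  obtain ⟨η', hη'y, hη'⟩ := exists_maximal_generization y
  obtain ⟨e⟩ := nonempty_stalk_equiv hE y
  have hne : Y.presheaf.germ (π ⁻¹ᵁ W) y hy (π.app W cW) ≠ 0 := fun hz => by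
    have hη'W : η' ∈ π ⁻¹ᵁ W := hη'y.mem_open (π ⁻¹ᵁ W).2 hy
    have hz' : Y.presheaf.germ (π ⁻¹ᵁ W) η' hη'W (π.app W cW) = 0 := by
      rw [← TopCat.Presheaf.germ_stalkSpecializes_apply Y.presheaf hy hη'y, hz, map_zero]
    rw [← Scheme.Hom.germ_stalkMap_apply π W η' hη'W cW] at hz'
    have hmax := D.maxPt_image hη'
    have hsp : π η' ⤳ x := by
      by_contra hns
      exact (i₁.le hη'W).2 (Set.mem_iUnion₂.2 ⟨π η', ⟨hmax, hns⟩, subset_closure rfl⟩)
    letI := (GenericZero.isField_stalk_of_maxPt hmax).toField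
    have hc0 : X.presheaf.germ W (π η') hη'W cW = 0 := by
      by_contra hn
      exact (((IsUnit.mk0 _ hn).map (π.stalkMap η').hom).ne_zero) hz'
    obtain ⟨V, hV, hxV, hVW⟩ := exists_isAffineOpen_mem_and_subset (x := x) hxW
    have hηV : π η' ∈ V := hsp.mem_open V.2 hxV
    letI := TopCat.Presheaf.algebra_section_stalk X.presheaf (⟨π η', hηV⟩ : V)
    haveI := hV.isLocalization_stalk ⟨π η', hηV⟩
    obtain ⟨⟨v, hv'⟩, hvc'⟩ := (IsLocalization.map_eq_zero_iff (hV.primeIdealOf ⟨π η', hηV⟩).asIdeal.primeCompl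
      (X.presheaf.stalk (π η')) (ores hVW cW)).1 (by
        show X.presheaf.germ V (π η') hηV (ores hVW cW) = 0
        rw [show X.presheaf.germ V (π η') hηV (ores hVW cW) = X.presheaf.germ W (π η') hη'W cW from
          X.presheaf.germ_res_apply (homOfLE hVW) (π η') hηV cW, hc0])
    have hv : IsUnit (X.presheaf.germ V (π η') hηV v) :=
      IsLocalization.map_units (X.presheaf.stalk (π η')) (⟨v, hv'⟩ : (hV.primeIdealOf ⟨π η', hηV⟩).asIdeal.primeCompl)
    have hv0 : X.presheaf.germ V x hxV v = 0 := by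
      refine (mem_nonZeroDivisors_iff_right.1 hc) _ ?_
      have h3 := congrArg (X.presheaf.germ V x hxV) hvc'
      rw [map_mul, map_zero] at h3
      refine Eq.trans (congrArg (X.presheaf.germ V x hxV v * ·) ?_) h3
      show _ = X.presheaf.germ V x hxV (ores hVW (ores _ c₀))
      rw [show X.presheaf.germ V x hxV (ores hVW (ores _ c₀)) = X.presheaf.germ W x hxW (ores _ c₀) from
        X.presheaf.germ_res_apply (homOfLE hVW) x hxV _]
      exact (X.presheaf.germ_res_apply (homOfLE _) x hxW c₀).symm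
    refine hv.ne_zero ?_
    rw [← TopCat.Presheaf.germ_stalkSpecializes_apply X.presheaf hxV hsp, hv0, map_zero]
  have h2 := congrArg (E.presheaf.germ (π ⁻¹ᵁ W) y hy) hmul
  rw [germ_smul, map_zero] at h2
  haveI : IsDomain (Y.presheaf.stalk y) := (D.normal y).1
  apply e.injective
  rw [map_zero]
  funext i
  have h3 := congrFun (congrArg e h2) i
  rw [map_smul, map_zero] at h3
  exact (mul_eq_zero.1 h3).resolve_left hne

variable (p : (Scheme.Modules.pullback π).obj F ⟶ E) [Epi p]

theorem Data.epi_push : Epi ((Scheme.Modules.pushforward π).map p) :=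
  StQC14.epi_pushforward_map π (M1.isQCoh_pullback π D.hF.1) (M2.isQCoh_of_isFinLocFree (M2.isFinLocFree_of_ofRank hE)) p

/-- The kernel of `π_* p` is torsion. -/
theorem Data.torsion_ker {x : X} {z : ((Scheme.Modules.pushforward π).obj ((Scheme.Modules.pullback π).obj F)).presheaf.stalk x}
    (h : stalkLin ((Scheme.Modules.pushforward π).map p) x z = 0) :
    ∃ c ∈ nonZeroDivisors (X.presheaf.stalk x), c • z = 0 := by
  classical
  haveI := D.noeth
  haveI := D.red
  haveI := D.sm
  haveI := NormStalk17.isNoetherian_of_finite π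
  have hY : topologicalKrullDim Y ≤ 1 := (H12.topologicalKrullDim_le_of_eq_of_specializes π π.continuous
    fun a b h e => H12.eq_of_specializes_of_isIntegralHom π h e).trans D.hdim.le
  have hG : Coh.IsCoh ((Scheme.Modules.pullback π).obj F) := M1.isCoh_pullback π D.hF
  have hK : Coh.IsCoh (kernel p) := M1.isCoh_kernel hG (M2.isQCoh_of_isFinLocFree (M2.isFinLocFree_of_ofRank hE)) p
  have hsurj : ∀ y, Function.Surjective (stalkLin p y) := (M1.epi_iff_stalk p).1 inferInstance
  have hpinj : ∀ η' : Y, (∀ y, y ⤳ η' → y = η') → Function.Injective (stalkLin p η') := fun η hη => by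
    haveI : Coh.IsQCoh F := D.hF.1
    obtain ⟨e⟩ := D.hfree (π η) (D.not_node_of_maxPt (D.maxPt_image hη))
    obtain ⟨e₀⟩ := nonempty_stalk_equiv hE η
    exact (S18913.bijective_of_surjective_rank ((M2.pullStalkEquiv π η F).symm ≪≫ₗ (LinearEquiv.baseChange _ _ _ _ e) ≪≫ₗ
      TensorProduct.piScalarRight _ _ _ _) e₀ _ (hsurj η)).1
  obtain ⟨S', hS'⟩ := exists_suppIn_of_maximal hY hK fun g hg => eq_zero_stalk_kernel p g (hpinj g hg)
  let G := (Scheme.Modules.pullback π).obj F
  let P := (Scheme.Modules.pushforward π).obj G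
  obtain ⟨V₁, hxV₁, s, rfl⟩ := P.presheaf.exists_germ_eq z
  rw [stalkLin_apply, germ_naturality] at h
  obtain ⟨W, hxW, i₁, i₂, hW⟩ := ((Scheme.Modules.pushforward π).obj E).presheaf.germ_eq x hxV₁ hxV₁ _ 0
    (h.trans (map_zero _).symm)
  have hpz : p.app (π ⁻¹ᵁ W) (M1.mres G (π.preimage_mono i₁.le) s) = 0 := by
    rw [app_mres]
    exact hW.trans (map_zero _)
  have hvan : ∀ η : X, FlatH4.IsMaxPt η → ∀ hηV : η ∈ V₁, η ∈ W → P.presheaf.germ V₁ η hηV s = 0 := by
    intro η hη hηV hηW
    have hcl : IsClosed (π '' (S' : Set Y)) := π.isClosedMap _ (by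
      rw [← Set.biUnion_of_singleton (S' : Set Y)]
      exact S'.finite_toSet.isClosed_biUnion fun q hq => hS'.closed q hq)
    have hnot : η ∉ π '' (S' : Set Y) := by
      rintro ⟨q, hq, rfl⟩
      have hc : IsClosed ({π q} : Set X) := by
        have := π.isClosedMap _ (hS'.closed q hq)
        rwa [Set.image_singleton] at this
      exact S18913.not_maxPt_of_closed D.hdim hc hη
    let W' : X.Opens := W ⊓ ⟨(π '' (S' : Set Y))ᶜ, hcl.isOpen_compl⟩
    have hle : W' ≤ V₁ := inf_le_left.trans i₁.le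
    rw [← germ_mres P hle (show η ∈ W' from ⟨hηW, hnot⟩) s]
    refine (congrArg (P.presheaf.germ W' η ⟨hηW, hnot⟩) (?_ : M1.mres P hle s = 0)).trans (map_zero _)
    change ((M1.mres G (π.preimage_mono hle) s : Γ(G, π ⁻¹ᵁ W'))) = (0 : Γ(G, π ⁻¹ᵁ W'))
    refine M1.section_ext _ _ fun y hy => ?_
    rw [map_zero]
    have hyS : y ∉ S' := fun hyS => hy.2 ⟨y, hyS, rfl⟩
    have hinj : ∀ v, stalkLin p y v = 0 → v = 0 := fun v hv => by
      obtain ⟨w, hw⟩ := (exact_iff_stalk_eq_zero (ShortComplex.mk (kernel.ι p) p (kernel.condition p))).1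
        (ShortComplex.exact_kernel p) y v hv
      rw [← hw, hS'.zero y hyS w, map_zero]
    refine hinj _ ?_
    rw [stalkLin_apply, germ_naturality]
    have h2 : p.app (π ⁻¹ᵁ W') (M1.mres G (π.preimage_mono hle) s) = 0 := by
      rw [← mres_mres G (π.preimage_mono i₁.le) (π.preimage_mono (inf_le_left : W' ≤ W)), app_mres, hpz, map_zero]
    exact (congrArg (E.presheaf.germ (π ⁻¹ᵁ W') y hy) h2).trans (map_zero _)
  haveI : Coh.IsQCoh P := M1.isQCoh_push π hG.1
  obtain ⟨c, hc, hcn⟩ := GenericZero.exists_mem_nonZeroDivisors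
      (LinearMap.ker (LinearMap.toSpanSingleton (X.presheaf.stalk x) (P.presheaf.stalk x) (P.presheaf.germ V₁ x hxV₁ s)))
      fun Q hQ hle => by
    obtain ⟨η, hηx, hηmax, hηu⟩ := GenericZero.exists_maxPt_of_minimalPrime hQ
    obtain ⟨V, hV, hxV, hVW⟩ := exists_isAffineOpen_mem_and_subset (x := x) hxW
    have hηV : η ∈ V := hηx.mem_open V.2 hxV
    have h0 : P.presheaf.germ V η hηV (M1.mres P (hVW.trans i₁.le) s) = 0 := by
      rw [germ_mres]
      exact hvan η hηmax _ (hVW hηV)
    obtain ⟨v, hv, hvs⟩ := exists_smul_eq_zero_of_germ_eq_zero P hV hηV _ h0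
    have hmem : X.presheaf.germ V x hxV v ∈ LinearMap.ker (LinearMap.toSpanSingleton (X.presheaf.stalk x)
        (P.presheaf.stalk x) (P.presheaf.germ V₁ x hxV₁ s)) := by
      show X.presheaf.germ V x hxV v • P.presheaf.germ V₁ x hxV₁ s = 0
      rw [← germ_mres P (hVW.trans i₁.le) hxV s, ← germ_smul, hvs, map_zero]
    refine (hηu (X.presheaf.germ V x hxV v)).1 ?_ (hle hmem)
    rwa [TopCat.Presheaf.germ_stalkSpecializes_apply]
  exact ⟨c, hcn, hc⟩

/-- `β : F → π_* E` at a stalk. -/
theorem Data.beta_apply (x : X) (f : F.presheaf.stalk x) :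
    stalkLin ((Scheme.Modules.pullbackPushforwardAdjunction π).unit.app F ≫ (Scheme.Modules.pushforward π).map p) x f =
      haveI : Coh.IsQCoh F := D.hF.1
      stalkLin ((Scheme.Modules.pushforward π).map p) x (pushPullStalk π F x (jmap (u₁ π x) f)) := by
  haveI : Coh.IsQCoh F := D.hF.1
  rw [stalkLin_comp, stalkLin_unit]
  rfl

theorem Data.beta_injective (x : X) : Function.Injective
    (stalkLin ((Scheme.Modules.pullbackPushforwardAdjunction π).unit.app F ≫ (Scheme.Modules.pushforward π).map p) x) := by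
  haveI : Coh.IsQCoh F := D.hF.1
  rw [injective_iff_map_eq_zero]
  intro f hf
  rw [D.beta_apply hE p] at hf
  obtain ⟨c, hc, h⟩ := D.torsion_ker hE p hf
  rw [← map_smul, ← map_smul] at h
  exact D.smul_regular hc (D.jmap_inj x (by rw [(pushPullStalk π F x).map_eq_zero_iff.1 h, map_zero]))

theorem Data.push_surjective (x : X) : Function.Surjective (stalkLin ((Scheme.Modules.pushforward π).map p) x) :=
  haveI := D.epi_push hE p
  fun b => (M1.epi_iff_stalk ((Scheme.Modules.pushforward π).map p)).1 inferInstance x b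

theorem Data.beta_surjective {x : X} (hx : ¬ Curv2.IsNode k X x) : Function.Surjective
    (stalkLin ((Scheme.Modules.pullbackPushforwardAdjunction π).unit.app F ≫ (Scheme.Modules.pushforward π).map p) x) := by
  intro z
  obtain ⟨w, rfl⟩ := D.push_surjective hE p x z
  obtain ⟨f, rfl⟩ := D.unit_surjective hx w
  exact ⟨f, stalkLin_comp _ _ x f⟩

/-- At a node `m` carries the direct image into `F`. -/
theorem Data.smul_mem_beta {x : X} (hx : Curv2.IsNode k X x) {t : X.presheaf.stalk x}
    (ht : t ∈ IsLocalRing.maximalIdeal (X.presheaf.stalk x)) (z : ((Scheme.Modules.pushforward π).obj E).presheaf.stalk x) :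
    t • z ∈ LinearMap.range (stalkLin ((Scheme.Modules.pullbackPushforwardAdjunction π).unit.app F ≫
      (Scheme.Modules.pushforward π).map p) x) := by
  haveI : Coh.IsQCoh F := D.hF.1
  haveI := D.noeth
  haveI := D.red
  haveI := D.iso_U
  obtain ⟨w, rfl⟩ := D.push_surjective hE p x z
  obtain ⟨w, rfl⟩ := (pushPullStalk π F x).surjective w
  induction w using TensorProduct.induction_on with
  | zero => rw [map_zero, map_zero, smul_zero]; exact Submodule.zero_mem _
  | tmul f s =>
    obtain ⟨c, -, hc⟩ := smul_mem_u₁ π D.normal D.U D.denseX D.denseY (D.deltaInv hx) t ht s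
    refine ⟨c • f, ?_⟩
    rw [D.beta_apply hE p, jmap_apply, TensorProduct.smul_tmul, hc, TensorProduct.tmul_smul, map_smul, map_smul]
  | add z w hz hw => rw [map_add, map_add, smul_add]; exact Submodule.add_mem _ hz hw

/-- The cokernel of `β` at a node. -/
theorem Data.beta_length {x : X} (hx : Curv2.IsNode k X x) :
    Module.length (X.presheaf.stalk x) ((((Scheme.Modules.pushforward π).obj E).presheaf.stalk x : Type u) ⧸
      LinearMap.range (stalkLin ((Scheme.Modules.pullbackPushforwardAdjunction π).unit.app F ≫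
        (Scheme.Modules.pushforward π).map p) x)) = (a x : ℕ∞) := by
  haveI : Coh.IsQCoh F := D.hF.1
  haveI := D.noeth
  haveI := D.red
  haveI := D.iso_U
  obtain ⟨-, ⟨e⟩⟩ := D.htype x hx
  obtain ⟨t, htm, htn⟩ := D.exists_nzd hx
  let φ : ((F.presheaf.stalk x : Type u) ⊗[X.presheaf.stalk x] ((pushO π).presheaf.stalk x : Type u)) →ₗ[X.presheaf.stalk x]
      (((Scheme.Modules.pushforward π).obj E).presheaf.stalk x : Type u) :=
    stalkLin ((Scheme.Modules.pushforward π).map p) x ∘ₗ (pushPullStalk π F x).toLinearMap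
  have hφ : Function.Surjective φ := (D.push_surjective hE p x).comp (pushPullStalk π F x).surjective
  have hker : ∀ z, φ z = 0 ↔ Θ e z = 0 := fun z => by
    rw [Θ_eq_zero_iff e htm htn fun c hc s h => torsionFree_pushO π D.normal D.U D.denseX D.denseY c hc s h]
    constructor
    · intro h
      obtain ⟨c, hc, h2⟩ := D.torsion_ker hE p h
      rw [← map_smul] at h2
      exact ⟨c, hc, (pushPullStalk π F x).map_eq_zero_iff.1 h2⟩
    · rintro ⟨c, hc, h⟩
      exact D.torsionFree_push hE hc (by rw [← map_smul, h, map_zero])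
  have hr : LinearMap.range (φ ∘ₗ jmap (u₁ π x)) = LinearMap.range
      (stalkLin ((Scheme.Modules.pullbackPushforwardAdjunction π).unit.app F ≫ (Scheme.Modules.pushforward π).map p) x) :=
    congrArg LinearMap.range (LinearMap.ext fun f => (D.beta_apply hE p x f).symm)
  rw [← (Submodule.quotEquivOfEq _ _ hr).length_eq,
    length_coker_mod_torsion (u₁ π x) e φ hφ hker fun t ht s => smul_mem_u₁ π D.normal D.U D.denseX D.denseY (D.deltaInv hx) t ht s,
    length_Q π D.normal D.U D.denseX D.denseY x, D.deltaInv hx, mul_one]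

end Groth.Agent.TFNodal17
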