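import Groth.Agent.S18913
import Groth.Agent.S7653
import Groth.Agent.S1587
import Groth.Agent.S1631
import Groth.Agent.Lib.Curve17.ModifCurve
import Groth.Agent.Lib.Multicross5.Scheme
import Groth.Agent.Lib.NodalRed10.Scheme
import Groth.Agent.Lib.Hens.Transfer
import Groth.Agent.Lib.VB17.Setup

/-!
# Nodes of a nodal curve
-/

set_option autoImplicit false
set_option linter.style.haveILetI false
set_option backward.isDefEq.respectTransparency false
set_option backward.isDefEq.respectTransparency.types false
universe u

open CategoryTheory CategoryTheory.Limits AlgebraicGeometry TopologicalSpace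

namespace Groth.Agent.TFNodal17

open Groth.Agent.CurveCoh17

attribute [local instance] Curv2.resAlgebra Curv2.stalkAlgebra

variable {k : Type u} [Field k] [IsAlgClosed k] [CharZero k] {X : Scheme.{u}}
  [X.Over (Spec (CommRingCat.of k))] [IsProper (X ↘ Spec (CommRingCat.of k))]

theorem isReduced (hnod : Curv2.AtWorstNodal k X) : AlgebraicGeometry.IsReduced X := by
  let f := X ↘ Spec (CommRingCat.of k)
  haveI : IsNoetherian X := CohFound.isNoetherian_of_isProper f
  haveI : GeometricallyReduced f := NodalRed10.geometricallyReduced_of_atWorstNodal X hnod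
  exact GeometricallyReduced.isReduced_of_flat_of_isLocallyNoetherian f

variable [ConnectedSpace X] (hdim : topologicalKrullDim X = 1)
include k hdim

theorem not_maxPt_node {x : X} (hx : Curv2.IsNode k X x) : ¬ FlatH4.IsMaxPt x := by
  haveI : IsNoetherian X := CohFound.isNoetherian_of_isProper (X ↘ Spec (CommRingCat.of k))
  exact S18913.not_maxPt_of_closed hdim hx.1

theorem dim_stalk {x : X} (hx : IsClosed ({x} : Set X)) : ringKrullDim (X.presheaf.stalk x) = 1 := by
  haveI : IsNoetherian X := CohFound.isNoetherian_of_isProper (X ↘ Spec (CommRingCat.of k))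
  have hnm := S18913.not_maxPt_of_closed hdim hx
  refine le_antisymm ((VB17.ringKrullDim_stalk_le_topologicalKrullDim x).trans hdim.le) ?_
  rw [ringKrullDim_stalk_eq_coheight]
  have : (1 : ℕ∞) ≤ Order.coheight x := ENat.one_le_iff_ne_zero.2 fun h0 => hnm fun z hz =>
    (hz.antisymm (Order.coheight_eq_zero.1 h0 hz)).eq
  exact_mod_cast this

theorem not_regular (hnod : Curv2.AtWorstNodal k X) {x : X} (hx : Curv2.IsNode k X x) :
    ¬ IsRegularLocalRing (X.presheaf.stalk x) := fun hreg => by
  haveI := isReduced hnod
  haveI : IsNoetherian X := CohFound.isNoetherian_of_isProper (X ↘ Spec (CommRingCat.of k))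
  have hd1 := dim_stalk (k := k) hdim hx.1
  have h0 : Curv2.deltaInv (X.presheaf.stalk x) = 0 :=
    (S7653.result _ (Multicross5.isNagata_stalk k x) hd1).2
      ((Hens.isDiscreteValuationRing_iff_regular_dim_one _).2 ⟨hreg, hd1⟩)
  rw [Multicross5.deltaInv_node hx hd1] at h0
  exact one_ne_zero h0

theorem finite_nodes (hnod : Curv2.AtWorstNodal k X) : {x : X | Curv2.IsNode k X x}.Finite := by
  let f := X ↘ Spec (CommRingCat.of k)
  haveI : IsNoetherian X := CohFound.isNoetherian_of_isProper f
  haveI := isReduced hnod
  haveI : LocallyOfFinitePresentation f := inferInstance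
  obtain ⟨S, hS, -⟩ := exists_finset_closedPoints hdim.le
    (show IsClosed ((f.smoothLocus : Set X)ᶜ) from f.smoothLocus.2.isClosed_compl) fun g hg hgS => by
      letI := (GenericZero.isField_stalk_of_maxPt (X := X) (z := g) hg).toField
      haveI : IsRegularLocalRing (X.presheaf.stalk g) := inferInstance
      exact hgS (RegSmooth17.mem_smoothLocus_of_isRegularLocalRing _ _
        (RegSmooth17.formallySmooth_residue_of_perfectField _ _))
  refine S.finite_toSet.subset fun x hx => hS.ge fun hsm => ?_
  exact not_regular hdim hnod hx (GeomRed.isRegularLocalRing_of_mem_smoothLocus hsm)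

theorem length_cotangent {x : X} (hx : Curv2.IsNode k X x) :
    Module.length (X.presheaf.stalk x) (IsLocalRing.maximalIdeal (X.presheaf.stalk x)).Cotangent = 2 := by
  haveI : IsNoetherian X := CohFound.isNoetherian_of_isProper (X ↘ Spec (CommRingCat.of k))
  let A := X.presheaf.stalk x
  have hq := (S1587.result k X hdim x hx.1).1 hx
  have h2 : Module.finrank (IsLocalRing.ResidueField A) (IsLocalRing.CotangentSpace A) = 2 :=
    ((S1631.result k A).2 hq).2.2.1
  haveI : FiniteDimensional (IsLocalRing.ResidueField A) (IsLocalRing.CotangentSpace A) :=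
    Module.finite_of_finrank_pos (by omega)
  let e := (Module.finBasisOfFinrankEq (IsLocalRing.ResidueField A) (IsLocalRing.CotangentSpace A) h2).equivFun.restrictScalars A
  haveI : IsSimpleModule A (IsLocalRing.ResidueField A) :=
    isSimpleModule_iff_quot_maximal.2 ⟨IsLocalRing.maximalIdeal A, inferInstance, ⟨LinearEquiv.refl _ _⟩⟩
  show Module.length A (IsLocalRing.CotangentSpace A) = 2
  rw [e.length_eq, Module.length_pi]
  simp [(Module.length_eq_one_iff (R := A) (M := IsLocalRing.ResidueField A)).2 inferInstance]

end Groth.Agent.TFNodal17
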